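import Mathlib
import Cfsg.Agent.Lib.Helper80.FP.NFDefs
import Cfsg.Agent.Lib.Helper12.S2924Core
import Cfsg.Agent.Lib.Helper37.FP.Easy
import Cfsg.Agent.S0016
import Cfsg.Agent.S0044

set_option autoImplicit false

/-!
# S3814 team project, package P10-B (`PkgCoreB`, interface of helper80)

With Core A (all elements of order `p` of `O_p(Λ)` lie in one cyclic subgroup and every element
of order `p` centralizes `O_p(Λ)`), the abstract configuration `Abs Λ q r FV FU`, `q < r`, is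
impossible.
-/

namespace Cfsg.Agent.Lib.Helper37.FP

open Cfsg.Agent.Lib.Helper80.FP

universe u

/-- `F(Λ) ≤ O_q(Λ) O_r(Λ)` for a `{q, r}`-group `Λ`. -/
theorem fitting_le_sup_two {Λ : Type u} [Group Λ] [Finite Λ] {q r : ℕ}
    (hcard : ∀ ℓ : ℕ, ℓ.Prime → ℓ ∣ Nat.card Λ → ℓ = q ∨ ℓ = r) :
    Cfsg.fittingSubgroup Λ ≤ Cfsg.pCore q Λ ⊔ Cfsg.pCore r Λ := by
  have hnil : Group.IsNilpotent (Cfsg.fittingSubgroup Λ) :=
    Cfsg.Agent.Lib.Helper71.fittingSubgroup_isNilpotent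
  have hFn : (Cfsg.fittingSubgroup Λ).Normal := Cfsg.Agent.Lib.Helper29.fittingSubgroup_normal Λ
  have htop : (Cfsg.pCore q Λ ⊔ Cfsg.pCore r Λ).subgroupOf (Cfsg.fittingSubgroup Λ) = ⊤ := by
    apply Cfsg.Agent.Lib.Helper30.eq_top_of_forall_sylow_le
    intro ℓ hℓ S
    have hSn : (S : Subgroup (Cfsg.fittingSubgroup Λ)).Normal := inferInstance
    have hSc : (S : Subgroup (Cfsg.fittingSubgroup Λ)).Characteristic :=
      Sylow.characteristic_of_normal S hSn
    have hS'n : ((S : Subgroup (Cfsg.fittingSubgroup Λ)).map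
        (Cfsg.fittingSubgroup Λ).subtype).Normal :=
      ConjAct.normal_of_characteristic_of_normal
    have hS'q : IsPGroup ℓ ((S : Subgroup (Cfsg.fittingSubgroup Λ)).map
        (Cfsg.fittingSubgroup Λ).subtype) := S.isPGroup'.map _
    have hle : (S : Subgroup (Cfsg.fittingSubgroup Λ)).map (Cfsg.fittingSubgroup Λ).subtype ≤
        Cfsg.pCore q Λ ⊔ Cfsg.pCore r Λ := by
      by_cases h1 : ℓ = q
      · subst h1
        exact (Cfsg.Agent.Lib.Helper49.le_pCore hS'n hS'q).trans le_sup_left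
      · by_cases h2 : ℓ = r
        · subst h2
          exact (Cfsg.Agent.Lib.Helper49.le_pCore hS'n hS'q).trans le_sup_right
        · have hbot : (S : Subgroup (Cfsg.fittingSubgroup Λ)).map
              (Cfsg.fittingSubgroup Λ).subtype = ⊥ := by
            obtain ⟨n, hn⟩ := IsPGroup.iff_card.mp hS'q
            rcases Nat.eq_zero_or_pos n with h0 | hpos
            · rw [h0, pow_zero] at hn
              exact Subgroup.card_eq_one.1 hn
            · exfalso
              have hd : ℓ ∣ Nat.card Λ :=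
                (dvd_pow_self ℓ hpos.ne').trans (hn ▸ Subgroup.card_subgroup_dvd_card _)
              rcases hcard ℓ hℓ.out hd with h | h
              · exact h1 h
              · exact h2 h
          rw [hbot]
          exact bot_le
    intro x hx
    rw [Subgroup.mem_subgroupOf]
    exact hle (Subgroup.mem_map_of_mem _ hx)
  rw [Subgroup.subgroupOf_eq_top] at htop
  exact htop

/-- An element of order `q` of `O_r(Λ) O_q(Λ)` lies in `O_q(Λ)` (`q ≠ r` primes). -/
theorem mem_pCore_of_mem_sup {Λ : Type u} [Group Λ] {q r : ℕ} (hq : q.Prime) (hr : r.Prime)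
    (hqr : q ≠ r) {k : Λ} (hk : k ∈ Cfsg.pCore r Λ ⊔ Cfsg.pCore q Λ) (hok : orderOf k = q) :
    k ∈ Cfsg.pCore q Λ := by
  haveI : Fact r.Prime := ⟨hr⟩
  have hOn : (Cfsg.pCore q Λ).Normal := Cfsg.Agent.Lib.Helper22.pCore_normal' q Λ
  have hk' : k ∈ ((Cfsg.pCore r Λ ⊔ Cfsg.pCore q Λ : Subgroup Λ) : Set Λ) := hk
  rw [Subgroup.mul_normal] at hk'
  obtain ⟨a, ha, d, hd, rfl⟩ := Set.mem_mul.mp hk'
  obtain ⟨e, he⟩ := (Cfsg.Agent.Lib.Helper49.pCore_isPGroup r Λ) ⟨a, ha⟩
  have he' : a ^ r ^ e = 1 := congrArg Subtype.val he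
  have h1 : (QuotientGroup.mk' (Cfsg.pCore q Λ)) (a * d) =
      (QuotientGroup.mk' (Cfsg.pCore q Λ)) a := by
    rw [map_mul]
    have : (QuotientGroup.mk' (Cfsg.pCore q Λ)) d = 1 := (QuotientGroup.eq_one_iff d).mpr hd
    rw [this, mul_one]
  have h2 : orderOf ((QuotientGroup.mk' (Cfsg.pCore q Λ)) a) ∣ orderOf (a * d) := by
    rw [← h1]
    exact orderOf_map_dvd _ _
  have h3 : orderOf ((QuotientGroup.mk' (Cfsg.pCore q Λ)) a) ∣ r ^ e := by
    apply orderOf_dvd_of_pow_eq_one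
    rw [← map_pow, he', map_one]
  have hcop : (q).Coprime (r ^ e) := Nat.Coprime.pow_right e ((Nat.coprime_primes hq hr).2 hqr)
  rw [hok] at h2
  have h4 : orderOf ((QuotientGroup.mk' (Cfsg.pCore q Λ)) a) = 1 :=
    Nat.eq_one_of_dvd_coprimes hcop h2 h3
  rw [orderOf_eq_one_iff] at h4
  have h5 : a ∈ Cfsg.pCore q Λ := (QuotientGroup.eq_one_iff a).mp h4
  exact (Cfsg.pCore q Λ).mul_mem h5 hd

theorem pkgCoreB : Cfsg.Agent.Lib.Helper80.FP.PkgCoreB.{u} := by
  intro hA Λ _ q r FV FU habs hqr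
  haveI := habs.fin
  haveI := habs.solv
  have hq := habs.pprime
  have hr := habs.p'prime
  haveI : Fact q.Prime := ⟨hq⟩
  haveI : Fact r.Prime := ⟨hr⟩
  obtain ⟨wq, hwq, hwq_all, hwq_cent⟩ := hA habs
  obtain ⟨wr, hwr, hwr_all, -⟩ := hA habs.symm
  obtain ⟨x, y, hx, hy, hxy, hyx⟩ := habs.rank
  have hr_odd : r ≠ 2 := by
    have := hq.two_le
    omega
  -- `O_r(Λ)` is cyclic
  have hP : IsPGroup r (Cfsg.pCore r Λ) := Cfsg.Agent.Lib.Helper49.pCore_isPGroup r Λ
  have hmap : ∀ H : Subgroup ↥(Cfsg.pCore r Λ), Nat.card H = r →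
      H.map (Cfsg.pCore r Λ).subtype = Subgroup.zpowers wr := by
    intro H hH
    apply Subgroup.eq_of_le_of_card_ge
    · rintro _ ⟨h, hh, rfl⟩
      apply hwr_all _ h.2
      have h1 : orderOf (⟨h, hh⟩ : ↥H) ∣ r := (orderOf_dvd_natCard (⟨h, hh⟩ : ↥H)).trans (dvd_of_eq hH)
      have h2 : (⟨h, hh⟩ : ↥H) ^ r = 1 := orderOf_dvd_iff_pow_eq_one.1 h1
      have h3 := congrArg (fun a : ↥H => ((a : ↥(Cfsg.pCore r Λ)) : Λ)) h2
      exact h3
    · rw [Subgroup.card_map_of_injective (Subgroup.subtype_injective _), hH, Nat.card_zpowers]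
      exact Nat.le_of_dvd hr.pos (orderOf_dvd_of_pow_eq_one hwr)
  have hcyc : IsCyclic (Cfsg.pCore r Λ) := by
    rcases Cfsg.Agent.S0016.result r hP (fun H K hH hK =>
      Subgroup.map_injective (Subgroup.subtype_injective _)
        ((hmap H hH).trans (hmap K hK).symm)) with h | ⟨h2, _⟩
    · exact h
    · exact absurd h2 hr_odd
  have hcomm : ∀ a ∈ Cfsg.pCore r Λ, ∀ b ∈ Cfsg.pCore r Λ, a * b = b * a := by
    intro a ha b hb
    obtain ⟨g, hg⟩ := hcyc.exists_generator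
    obtain ⟨i, hi⟩ := Subgroup.mem_zpowers_iff.1 (hg ⟨a, ha⟩)
    obtain ⟨j, hj⟩ := Subgroup.mem_zpowers_iff.1 (hg ⟨b, hb⟩)
    have h := (((Commute.refl g).zpow_right j).zpow_left i).eq
    rw [hi, hj] at h
    exact congrArg Subtype.val h
  have hqcard : ¬ q ∣ Nat.card (Cfsg.pCore r Λ) := by
    obtain ⟨n, hn⟩ := IsPGroup.iff_card.mp hP
    rw [hn]
    intro h
    exact habs.ne ((Nat.prime_dvd_prime_iff_eq hq hr).1 (hq.dvd_of_dvd_pow h))
  have hrn : (Cfsg.pCore r Λ).Normal := Cfsg.Agent.Lib.Helper22.pCore_normal' r Λ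
  -- every element of order `q` lies in `⟨wq⟩`
  have key : ∀ x : Λ, orderOf x = q → x ∈ Subgroup.zpowers wq := by
    intro x hx
    have hxq : ∀ g ∈ Cfsg.pCore q Λ, x * g = g * x := hwq_cent x hx
    have hxr : ∀ g ∈ Cfsg.pCore r Λ, x * g = g * x :=
      habs.nf x (by rw [hx]; exact hq) (Cfsg.pCore r Λ) hcomm (by rw [hx]; exact hqcard)
        (fun k hk => hrn.conj_mem k hk x)
    have hsup : Cfsg.pCore r Λ ⊔ Cfsg.pCore q Λ ≤ Subgroup.centralizer ({x} : Set Λ) := by
      apply sup_le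
      · intro g hg
        exact Subgroup.mem_centralizer_singleton_iff.2 (hxr g hg).symm
      · intro g hg
        exact Subgroup.mem_centralizer_singleton_iff.2 (hxq g hg).symm
    have hF : Cfsg.fittingSubgroup Λ ≤ Cfsg.pCore r Λ ⊔ Cfsg.pCore q Λ := by
      rw [sup_comm]
      exact fitting_le_sup_two habs.card
    have hxc : x ∈ Subgroup.centralizer (Cfsg.fittingSubgroup Λ : Set Λ) := by
      rw [Subgroup.mem_centralizer_iff]
      intro f hf
      exact Subgroup.mem_centralizer_singleton_iff.1 (hsup (hF hf))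
    have hxF : x ∈ Cfsg.fittingSubgroup Λ := Cfsg.Agent.S0044.result hxc
    have hxO : x ∈ Cfsg.pCore q Λ := mem_pCore_of_mem_sup hq hr habs.ne (hF hxF) hx
    exact hwq_all x hxO (by rw [← hx]; exact pow_orderOf_eq_one x)
  have hx1 : x ≠ 1 := by
    intro h
    rw [h, orderOf_one] at hx
    exact hq.one_lt.ne hx
  have hxw := key x hx
  have hyw := key y hy
  have how : orderOf wq = q := by
    rcases (Nat.dvd_prime hq).1 (orderOf_dvd_of_pow_eq_one hwq) with h | h
    · exfalso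
      rw [orderOf_eq_one_iff] at h
      rw [h] at hxw
      exact hx1 (Subgroup.mem_zpowers_iff.1 hxw |>.elim (fun i hi => by rw [← hi, one_zpow]))
    · exact h
  have hwx : wq ∈ Subgroup.zpowers x :=
    mem_zpowers_of_prime_order (by rw [how]; exact hq) hxw hx1
  exact hyx ((Subgroup.zpowers_le.2 hwx) hyw)

end Cfsg.Agent.Lib.Helper37.FP
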